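import Mathlib.Algebra.Homology.ShortComplex.ModuleCat
import Mathlib.Algebra.Homology.QuasiIso
import Mathlib.Algebra.Homology.Double

/-!
# Quasi-isomorphisms of two term complexes of modules
-/

set_option autoImplicit false

universe u v

open CategoryTheory CategoryTheory.Limits

namespace NLHensLib

variable {R : Type u} [CommRing R]

theorem quasiIso_short {S T : ShortComplex (ModuleCat.{v} R)} (φ : S ⟶ T)
    (hinj : ∀ x : S.X₂, S.g x = 0 → (∃ t, T.f t = φ.τ₂ x) → ∃ s, S.f s = x)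
    (hsurj : ∀ y : T.X₂, T.g y = 0 → ∃ x : S.X₂, S.g x = 0 ∧ ∃ t, T.f t = y - φ.τ₂ x) :
    ShortComplex.QuasiIso φ := by
  let γ : ShortComplex.LeftHomologyMapData φ S.moduleCatLeftHomologyData T.moduleCatLeftHomologyData := default
  rw [γ.quasiIso_iff, ConcreteCategory.isIso_iff_bijective]
  have hK : ∀ x : LinearMap.ker S.g.hom, (γ.φK x : LinearMap.ker T.g.hom).1 = φ.τ₂ x.1 :=
    fun x => congr($(γ.commi) x)
  have hH : ∀ x : LinearMap.ker S.g.hom, γ.φH (Submodule.Quotient.mk x) = Submodule.Quotient.mk (γ.φK x) :=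
    fun x => congr($(γ.commπ) x)
  constructor
  · refine (injective_iff_map_eq_zero _).2 fun z hz => ?_
    obtain ⟨x, rfl⟩ := Submodule.Quotient.mk_surjective _ z
    obtain ⟨t, ht⟩ := (Submodule.Quotient.mk_eq_zero _).1 ((hH x).symm.trans hz)
    obtain ⟨s, hs⟩ := hinj x.1 x.2 ⟨t, (congrArg Subtype.val ht).trans (hK x)⟩
    exact (Submodule.Quotient.mk_eq_zero _).2 ⟨s, Subtype.ext hs⟩
  · intro z
    obtain ⟨y, rfl⟩ := Submodule.Quotient.mk_surjective _ z
    obtain ⟨x, hx, t, ht⟩ := hsurj y.1 y.2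
    refine ⟨Submodule.Quotient.mk (⟨x, hx⟩ : LinearMap.ker S.g.hom), (hH _).trans ((Submodule.Quotient.eq _).2 ?_)⟩
    refine ⟨-t, Subtype.ext ?_⟩
    show T.f.hom (-t) = _
    rw [map_neg, show T.f.hom t = _ from ht, neg_sub]
    exact congrArg (· - y.1) (hK ⟨x, hx⟩).symm

variable {X₀ X₁ Y₀ Y₁ : ModuleCat.{v} R} {f : X₀ ⟶ X₁} {g : Y₀ ⟶ Y₁} {hi : (ComplexShape.up ℤ).Rel (-1) 0}

theorem quasiIso_double (φ : HomologicalComplex.double f hi ⟶ HomologicalComplex.double g hi)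
    (a : X₀ ⟶ Y₀) (b : X₁ ⟶ Y₁)
    (ha : φ.f (-1) = (HomologicalComplex.doubleXIso₀ f hi).hom ≫ a ≫ (HomologicalComplex.doubleXIso₀ g hi).inv)
    (hb : φ.f 0 = (HomologicalComplex.doubleXIso₁ f hi (by decide)).hom ≫ b ≫
      (HomologicalComplex.doubleXIso₁ g hi (by decide)).inv)
    (h₁ : ∀ x, f x = 0 → a x = 0 → x = 0) (h₂ : ∀ y, g y = 0 → ∃ x, f x = 0 ∧ a x = y)
    (h₃ : ∀ x, (∃ y, g y = b x) → ∃ x', f x' = x) (h₄ : ∀ y, ∃ x z, b x + g z = y) : QuasiIso φ := by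
  let K := HomologicalComplex.double f hi
  let L := HomologicalComplex.double g hi
  let e₀ := (HomologicalComplex.doubleXIso₀ f hi).toLinearEquiv
  let e₁ := (HomologicalComplex.doubleXIso₁ f hi (by decide)).toLinearEquiv
  let d₀ := (HomologicalComplex.doubleXIso₀ g hi).toLinearEquiv
  let d₁ := (HomologicalComplex.doubleXIso₁ g hi (by decide)).toLinearEquiv
  have hK : ∀ x, e₁ (K.d (-1) 0 x) = f (e₀ x) := fun x => by
    show (HomologicalComplex.doubleXIso₁ f hi _).hom ((HomologicalComplex.double f hi).d (-1) 0 x) = _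
    rw [HomologicalComplex.double_d _ _ (by decide)]
    simp [e₀]
  have hL : ∀ x, d₁ (L.d (-1) 0 x) = g (d₀ x) := fun x => by
    show (HomologicalComplex.doubleXIso₁ g hi _).hom ((HomologicalComplex.double g hi).d (-1) 0 x) = _
    rw [HomologicalComplex.double_d _ _ (by decide)]
    simp [d₀]
  have hA : ∀ x, d₀ (φ.f (-1) x) = a (e₀ x) := fun x => by
    rw [ha]
    simp [d₀, e₀]
  have hB : ∀ x, d₁ (φ.f 0 x) = b (e₁ x) := fun x => by
    rw [hb]
    simp [d₁, e₁]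
  rw [quasiIso_iff]
  intro i
  by_cases h : i = -1
  · subst h
    rw [quasiIsoAt_iff' φ (-2) (-1) 0 (by simp) (by simp)]
    refine quasiIso_short _ (fun x hx ⟨t, ht⟩ => ⟨0, ?_⟩) (fun y hy => ?_)
    · change K.d (-2) (-1) 0 = x
      rw [map_zero]
      change K.d (-1) 0 x = 0 at hx
      change L.d (-2) (-1) t = φ.f (-1) x at ht
      rw [show L.d (-2) (-1) = 0 from HomologicalComplex.double_d_eq_zero₁ _ _ _ _ (by decide)] at ht
      refine (e₀.map_eq_zero_iff.1 (h₁ _ ?_ ?_)).symm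
      · rw [← hK, hx, map_zero]
      · rw [← hA, ← ht]
        exact map_zero d₀
    · change L.d (-1) 0 y = 0 at hy
      obtain ⟨x, hx, hxy⟩ := h₂ (d₀ y) (by rw [← hL, hy, map_zero])
      refine ⟨e₀.symm x, ?_, 0, ?_⟩
      · change K.d (-1) 0 _ = 0
        refine e₁.injective ?_
        rw [hK, e₀.apply_symm_apply, hx, map_zero]
      · change L.d (-2) (-1) 0 = (show L.X (-1) from y) - φ.f (-1) _
        rw [map_zero, eq_comm, sub_eq_zero]
        refine d₀.injective ?_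
        rw [hA, e₀.apply_symm_apply, hxy]
  by_cases h' : i = 0
  · subst h'
    rw [quasiIsoAt_iff' φ (-1) 0 1 (by simp) (by simp)]
    refine quasiIso_short _ (fun x _ ⟨t, ht⟩ => ?_) (fun y _ => ?_)
    · change L.d (-1) 0 t = φ.f 0 x at ht
      obtain ⟨x', hx'⟩ := h₃ (e₁ x) ⟨d₀ t, by rw [← hL, ht, hB]⟩
      refine ⟨e₀.symm x', e₁.injective ?_⟩
      change e₁ (K.d (-1) 0 (e₀.symm x')) = _
      rw [hK, e₀.apply_symm_apply, hx']
    · obtain ⟨x, z, hxz⟩ := h₄ (d₁ y)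
      refine ⟨e₁.symm x, ?_, d₀.symm z, d₁.injective ?_⟩
      · change K.d 0 1 _ = 0
        rw [show K.d 0 1 = 0 from HomologicalComplex.double_d_eq_zero₀ _ _ _ _ (by decide)]
        rfl
      · change d₁ (L.d (-1) 0 (d₀.symm z)) = d₁ ((show L.X 0 from y) - φ.f 0 _)
        rw [hL, map_sub, hB, d₀.apply_symm_apply, e₁.apply_symm_apply, ← hxz]
        abel
  rw [quasiIsoAt_iff_exactAt]
  · exact ShortComplex.exact_of_isZero_X₂ _ (HomologicalComplex.isZero_double_X g hi i h h')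
  · exact ShortComplex.exact_of_isZero_X₂ _ (HomologicalComplex.isZero_double_X f hi i h h')

end NLHensLib
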