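import Mathlib.RingTheory.Kaehler.JacobiZariski
import Mathlib.RingTheory.Flat.Basic

/-!
# Injectivity of the base changed map of conormal modules
-/

set_option autoImplicit false
set_option backward.isDefEq.respectTransparency.types false

universe u

open TensorProduct Algebra

noncomputable section

namespace NLHensLib

variable {R S T : Type u} [CommRing R] [CommRing S] [CommRing T] [Algebra R S] [Algebra R T] [Algebra S T]
  [IsScalarTower R S T] (E : Extension.{u} R S) (E' : Extension.{u} R T) (f : E.Hom E')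
  {C : Type u} [CommRing C] [Algebra E.Ring C] (π : C →+* T)
  (hπ : ∀ p : E.Ring, π (algebraMap E.Ring C p) = algebraMap S T (algebraMap E.Ring S p))

/-- `C ⊗ I → T ⊗ I/I²`. -/
def theta : C ⊗[E.Ring] E.ker →+ T ⊗[S] E.Cotangent :=
  TensorProduct.liftAddHom
    (AddMonoidHom.mk' (fun c => AddMonoidHom.mk' (fun x => π c ⊗ₜ Extension.Cotangent.mk x)
        fun x y => by rw [map_add, tmul_add])
      fun c d => AddMonoidHom.ext fun x => by
        show π (c + d) ⊗ₜ[S] Extension.Cotangent.mk x = π c ⊗ₜ _ + π d ⊗ₜ _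
        rw [map_add, add_tmul])
    fun p c x => by
      show π (p • c) ⊗ₜ[S] Extension.Cotangent.mk x = π c ⊗ₜ[S] Extension.Cotangent.mk (p • x)
      rw [Algebra.smul_def p c, map_mul, hπ, ← Algebra.smul_def, TensorProduct.smul_tmul, map_smul,
        algebraMap_smul]

theorem theta_tmul (c : C) (x : E.ker) : theta E π hπ (c ⊗ₜ x) = π c ⊗ₜ Extension.Cotangent.mk x := rfl

variable (hsurj : Function.Surjective π) (hker : RingHom.ker π = E.ker.map (algebraMap E.Ring C))
  (g : E'.Ring →+* C) (hg : ∀ z, π (g z) = algebraMap E'.Ring T z)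
  (hgf : ∀ p, g (f.toRingHom p) = algebraMap E.Ring C p)

include hsurj in
theorem theta_surjective : Function.Surjective (theta E π hπ) := fun y => by
  induction y with
  | zero => exact ⟨0, map_zero _⟩
  | add a b ha hb =>
    obtain ⟨a', rfl⟩ := ha
    obtain ⟨b', rfl⟩ := hb
    exact ⟨a' + b', map_add _ _ _⟩
  | tmul t m =>
    obtain ⟨c, rfl⟩ := hsurj t
    obtain ⟨x, rfl⟩ := Extension.Cotangent.mk_surjective m
    exact ⟨c ⊗ₜ x, theta_tmul E π hπ c x⟩

include hπ hsurj hker hg hgf in
theorem injective_cotangent [Module.Flat E.Ring C] :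
    Function.Injective ((Extension.Cotangent.map f).liftBaseChange T) := by
  let ι : C ⊗[E.Ring] E.ker →ₗ[E.Ring] C :=
    (TensorProduct.rid E.Ring C).toLinearMap ∘ₗ E.ker.subtype.lTensor C
  have hι : Function.Injective ι :=
    (TensorProduct.rid E.Ring C).injective.comp (Module.Flat.lTensor_preserves_injective_linearMap _ Subtype.val_injective)
  have hιt : ∀ (c : C) (x : E.ker), ι (c ⊗ₜ x) = c * algebraMap E.Ring C (x : E.Ring) := fun c x => by
    show (x : E.Ring) • c = _
    rw [Algebra.smul_def, mul_comm]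
  have hgker : ∀ z ∈ E'.ker, g z ∈ E.ker.map (algebraMap E.Ring C) := fun z hz => by
    rw [← hker, RingHom.mem_ker, hg]
    exact hz
  have hpair : ∀ w, ∃ z : E'.ker,
      Extension.Cotangent.mk z = (Extension.Cotangent.map f).liftBaseChange T (theta E π hπ w) ∧
        g z - ι w ∈ (E.ker * E.ker).map (algebraMap E.Ring C) := fun w => by
    induction w with
    | zero => exact ⟨0, by simp, by simp⟩
    | add a b ha hb =>
      obtain ⟨z, hz, hza⟩ := ha
      obtain ⟨z', hz', hzb⟩ := hb
      refine ⟨z + z', by rw [map_add, map_add, map_add, hz, hz'], ?_⟩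
      rw [Submodule.coe_add, map_add, map_add, add_sub_add_comm]
      exact add_mem hza hzb
    | tmul c x =>
      obtain ⟨q, hq⟩ := E'.algebraMap_surjective (π c)
      let y : E'.ker := ⟨f.toRingHom x, by
        rw [Extension.ker, RingHom.mem_ker, f.algebraMap_toRingHom, x.2, map_zero]⟩
      refine ⟨q • y, ?_, ?_⟩
      · rw [theta_tmul, LinearMap.liftBaseChange_tmul, Extension.Cotangent.map_mk, map_smul,
          ← algebraMap_smul T q, hq]
        rfl
      · have h1 : g q - c ∈ E.ker.map (algebraMap E.Ring C) := by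
          rw [← hker, RingHom.mem_ker, map_sub, hg, hq, sub_self]
        rw [hιt, show ((q • y : E'.ker) : E'.Ring) = q * f.toRingHom x from rfl, map_mul, hgf, ← sub_mul,
          Ideal.map_mul]
        exact Ideal.mul_mem_mul h1 (Ideal.mem_map_of_mem _ x.2)
  have hsq : ∀ j ∈ (E.ker * E.ker).map (algebraMap E.Ring C), ∃ w, ι w = j ∧ theta E π hπ w = 0 := fun j hj => by
    rw [Ideal.map] at hj
    induction hj using Submodule.span_induction with
    | mem v hv =>
      obtain ⟨p, hp, rfl⟩ := hv
      have hp' : p ∈ E.ker := Ideal.mul_le_right hp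
      refine ⟨1 ⊗ₜ ⟨p, hp'⟩, by rw [hιt, one_mul], ?_⟩
      rw [theta_tmul, show Extension.Cotangent.mk (⟨p, hp'⟩ : E.ker) = 0 from
        Extension.Cotangent.ext ((Ideal.toCotangent_eq_zero E.ker _).2 (by rw [pow_two]; exact hp)), tmul_zero]
    | zero => exact ⟨0, map_zero _, map_zero _⟩
    | add a b _ _ ha hb =>
      obtain ⟨w, rfl, hw⟩ := ha
      obtain ⟨w', rfl, hw'⟩ := hb
      exact ⟨w + w', map_add _ _ _, by rw [map_add, hw, hw', add_zero]⟩
    | smul c a _ ha =>
      obtain ⟨w, rfl, hw⟩ := ha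
      have key : ∀ v, ι ((LinearMap.mulLeft E.Ring c).rTensor _ v) = c * ι v ∧
          theta E π hπ ((LinearMap.mulLeft E.Ring c).rTensor _ v) = π c • theta E π hπ v := fun v => by
        induction v with
        | zero => simp
        | add a b ha hb => simp only [map_add, mul_add, smul_add, ha.1, ha.2, hb.1, hb.2, and_self]
        | tmul d x =>
          rw [LinearMap.rTensor_tmul, LinearMap.mulLeft_apply, hιt, hιt, theta_tmul, theta_tmul, map_mul,
            mul_assoc]
          exact ⟨rfl, by rw [TensorProduct.smul_tmul', smul_eq_mul]⟩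
      exact ⟨_, (key w).1, by rw [(key w).2, hw, smul_zero]⟩
  refine (injective_iff_map_eq_zero _).2 fun y hy => ?_
  obtain ⟨w, rfl⟩ := theta_surjective E π hπ hsurj y
  obtain ⟨z, hz, hzw⟩ := hpair w
  rw [hy] at hz
  have hz2 : (z : E'.Ring) ∈ E'.ker ^ 2 :=
    (Ideal.toCotangent_eq_zero E'.ker z).1 (congrArg Extension.Cotangent.val hz)
  have h2 : g z ∈ (E.ker * E.ker).map (algebraMap E.Ring C) := by
    rw [pow_two] at hz2
    generalize (z : E'.Ring) = v at hz2 ⊢
    induction hz2 using Submodule.mul_induction_on' with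
    | mem_mul_mem a ha b hb => rw [map_mul, Ideal.map_mul]; exact Ideal.mul_mem_mul (hgker a ha) (hgker b hb)
    | add a _ b _ ha hb => rw [map_add]; exact add_mem ha hb
  obtain ⟨w', hw', hθ⟩ := hsq (ι w) (by simpa using sub_mem h2 hzw)
  rwa [hι hw'] at hθ

end NLHensLib
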