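import Groth.Prelude.Def_SheafNL
import Groth.Agent.NLHensLib.Inj
import Groth.Agent.NLHensLib.Double
import Groth.Agent.NLBCLib.Main
import Groth.Agent.NLSheafLib.Base
import Groth.Agent.IndEtQuotLib.Basic
import Groth.Agent.IndEtLib.Flat

/-!
# The naive cotangent complex along ind-étale maps
-/

set_option autoImplicit false
set_option backward.isDefEq.respectTransparency.types false
set_option maxHeartbeats 1000000

universe u

open CategoryTheory TensorProduct Algebra

noncomputable section

namespace NLHensLib

section Equiv

theorem isIndEtale_congr {P S T : Type u} [CommRing P] [CommRing S] [CommRing T] [Algebra P T] [Algebra S T]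
    (e : P ≃+* S) (he : ∀ p, algebraMap S T (e p) = algebraMap P T p) (h : EtPBC.IsIndEtale S T) :
    EtPBC.IsIndEtale P T := by
  rw [IndEtLib.isIndEtale_iff] at h ⊢
  haveI : (IndEtLib.Et.{u}).RespectsIso := RingHom.toMorphismProperty_respectsIso_iff.1 RingHom.Etale.respectsIso
  have hc : CommRingCat.ofHom (algebraMap P T) = e.toCommRingCatIso.hom ≫ CommRingCat.ofHom (algebraMap S T) :=
    CommRingCat.hom_ext (RingHom.ext fun p => (he p).symm)
  rw [hc]
  exact (MorphismProperty.cancel_left_of_respectsIso _ _ _).2 h

end Equiv

variable {R S T : Type u} [CommRing R] [CommRing S] [CommRing T] [Algebra R S] [Algebra R T] [Algebra S T]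
  [IsScalarTower R S T]

theorem injective_toComp (h : EtPBC.IsIndEtale S T) :
    Function.Injective ((Extension.Cotangent.map
      ((Generators.self S T).toComp (Generators.self R S)).toExtensionHom).liftBaseChange T) := by
  let G := (Generators.self S T).comp (Generators.self R S)
  let E := (Generators.self R S).toExtension
  let I : Ideal E.Ring := E.ker
  letI : Algebra (E.Ring ⧸ I) T := ((algebraMap S T).comp (Ideal.Quotient.lift I (algebraMap E.Ring S) fun _ ha => ha)).toAlgebra
  letI : Algebra E.Ring T := ((algebraMap S T).comp (algebraMap E.Ring S)).toAlgebra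
  haveI : IsScalarTower E.Ring (E.Ring ⧸ I) T := IsScalarTower.of_algebraMap_eq' rfl
  have h' : EtPBC.IsIndEtale (E.Ring ⧸ I) T :=
    isIndEtale_congr (RingHom.quotientKerEquivOfSurjective E.algebraMap_surjective) (fun q => by
      obtain ⟨p, rfl⟩ := Ideal.Quotient.mk_surjective q
      rfl) h
  obtain ⟨C, _, _, hC, ⟨e⟩⟩ := Groth.Agent.IndEtQuotLib.exists_indEtale_lift I h'
  haveI := IndEtLib.weaklyEtale_of_isIndEtale E.Ring C hC
  haveI : Module.Flat E.Ring C := Algebra.WeaklyEtale.flat
  let π : C →+* T := (e : (C ⧸ I.map (algebraMap E.Ring C)) →+* T).comp (Ideal.Quotient.mk _)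
  have hπ : ∀ p : E.Ring, π (algebraMap E.Ring C p) = algebraMap S T (algebraMap E.Ring S p) := fun p =>
    e.commutes (Ideal.Quotient.mk I p)
  have hsurj : Function.Surjective π := e.surjective.comp Ideal.Quotient.mk_surjective
  have hker : RingHom.ker π = I.map (algebraMap E.Ring C) := by
    ext c
    rw [RingHom.mem_ker]
    exact (map_eq_zero_iff e e.injective).trans Ideal.Quotient.eq_zero_iff_mem
  choose l hl using id hsurj
  let g : MvPolynomial (T ⊕ S) R →+* C :=
    MvPolynomial.eval₂Hom ((algebraMap E.Ring C).comp (MvPolynomial.C : R →+* MvPolynomial S R))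
      (Sum.elim l fun s => algebraMap E.Ring C (MvPolynomial.X s : MvPolynomial S R))
  refine injective_cotangent E G.toExtension _ π hπ hsurj hker g (fun z => ?_) (fun p => ?_)
  · have key : π.comp g = (MvPolynomial.aeval G.val).toRingHom := by
      refine MvPolynomial.ringHom_ext (fun r => ?_) (fun i => ?_)
      · simp only [g, RingHom.comp_apply, MvPolynomial.eval₂Hom_C, hπ]
        refine (congrArg (algebraMap S T) (MvPolynomial.aeval_C (R := R) (fun s : S => s) r)).trans ?_
        rw [← IsScalarTower.algebraMap_apply]
        exact (MvPolynomial.aeval_C _ r).symm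
      · obtain t | s := i
        · simp only [g, RingHom.comp_apply, MvPolynomial.eval₂Hom_X', Sum.elim_inl, hl]
          exact (MvPolynomial.aeval_X G.val (Sum.inl t)).symm
        · simp only [g, RingHom.comp_apply, MvPolynomial.eval₂Hom_X', Sum.elim_inr, hπ]
          exact (congrArg (algebraMap S T) (MvPolynomial.aeval_X (R := R) (fun s : S => s) s)).trans
            (MvPolynomial.aeval_X G.val (Sum.inr s)).symm
    exact RingHom.congr_fun key z
  · have key : g.comp (MvPolynomial.rename Sum.inr : MvPolynomial S R →ₐ[R] MvPolynomial (T ⊕ S) R).toRingHom =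
        algebraMap E.Ring C := by
      refine MvPolynomial.ringHom_ext (fun r => ?_) (fun i => ?_)
      · simp [g]
        rfl
      · simp [g]
        rfl
    refine Eq.trans (congrArg g ?_) (RingHom.congr_fun key p)
    exact congr($(Generators.toComp_toAlgHom (Generators.self S T) (Generators.self R S)) p)

theorem quasiIso_bcMap_toComp (h : EtPBC.IsIndEtale S T) [Algebra.FormallyEtale S T] :
    QuasiIso (NLCx.bcMap (S' := T) ((Generators.self S T).toComp (Generators.self R S)).toExtensionHom) := by
  let Q := Generators.self S T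
  let P := Generators.self R S
  let f := (Q.toComp P).toExtensionHom
  have key := Generators.H1Cotangent.map_comp_cotangentComplex_baseChange Q P
  have hbi := Generators.CotangentSpace.map_toComp_injective Q P
  have hdQ : Function.Bijective Q.toExtension.cotangentComplex := by
    refine ⟨(Extension.subsingleton_h1Cotangent Q.toExtension).1 inferInstance, fun y => ?_⟩
    exact (Q.toExtension.exact_cotangentComplex_toKaehler y).1 (Subsingleton.elim _ _)
  refine quasiIso_double _ (ModuleCat.ofHom ((Extension.Cotangent.map f).liftBaseChange T))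
    (ModuleCat.ofHom ((Extension.CotangentSpace.map f).liftBaseChange T))
    (HomologicalComplex.mkHomFromDouble_f₀ _ _ _ _ _ _)
    (HomologicalComplex.mkHomFromDouble_f₁ _ _ _ _ _ _) ?_ ?_ ?_ ?_
  · exact fun x _ hx => (map_eq_zero_iff _ (injective_toComp h)).1 hx
  · intro y hy
    have hof : Extension.Cotangent.map (Q.ofComp P).toExtensionHom y = 0 := by
      refine hdQ.1 ?_
      rw [← Extension.CotangentSpace.map_cotangentComplex, map_zero]
      exact (congrArg _ hy).trans (map_zero _)
    obtain ⟨x, hx⟩ := (Generators.Cotangent.exact Q P y).1 hof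
    refine ⟨x, hbi ?_, hx⟩
    refine Eq.trans ?_ (map_zero _).symm
    refine (LinearMap.congr_fun key x).trans ?_
    exact (congrArg _ hx).trans hy
  · rintro x ⟨y, hy⟩
    have hof : Extension.Cotangent.map (Q.ofComp P).toExtensionHom y = 0 := by
      refine hdQ.1 ?_
      rw [← Extension.CotangentSpace.map_cotangentComplex, map_zero]
      exact (congrArg _ hy).trans ((Generators.CotangentSpace.exact Q P).apply_apply_eq_zero x)
    obtain ⟨x', hx'⟩ := (Generators.Cotangent.exact Q P y).1 hof
    refine ⟨x', hbi ?_⟩
    refine (LinearMap.congr_fun key x').trans ?_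
    exact (congrArg _ hx').trans hy
  · intro y
    obtain ⟨w, hw⟩ := hdQ.2 (Extension.CotangentSpace.map (Q.ofComp P).toExtensionHom y)
    obtain ⟨z, rfl⟩ := Generators.Cotangent.surjective_map_ofComp Q P w
    rw [← Extension.CotangentSpace.map_cotangentComplex] at hw
    obtain ⟨x, hx⟩ := (Generators.CotangentSpace.exact Q P (y - (Q.comp P).toExtension.cotangentComplex z)).1
      (by rw [map_sub, hw, sub_self])
    exact ⟨x, z, (congrArg (· + _) hx).trans (sub_add_cancel _ _)⟩

section BaseChange

variable {R' : Type u} [CommRing R'] [Algebra R R'] [Algebra R' T] [IsScalarTower R R' T]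

theorem map_toKaehler {P₁ : Extension.{u} R T} {P₂ : Extension.{u} R' T} (f : P₁.Hom P₂) (x : P₁.CotangentSpace) :
    KaehlerDifferential.map R R' T T (P₁.toKaehler x) = P₂.toKaehler (Extension.CotangentSpace.map f x) := by
  induction x using TensorProduct.induction_on with
  | zero => simp
  | add a b ha hb => simp only [map_add, ha, hb]
  | tmul t w =>
    have hw : w ∈ Submodule.span P₁.Ring (Set.range (KaehlerDifferential.D R P₁.Ring)) := by
      rw [KaehlerDifferential.span_range_derivation]; trivial
    induction hw using Submodule.span_induction generalizing t with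
    | mem v hv =>
      obtain ⟨p, rfl⟩ := hv
      simp [Extension.toKaehler, f.algebraMap_toRingHom, Extension.CotangentSpace.map_tmul]
    | zero => simp
    | add a b _ _ ha hb => simp only [tmul_add, map_add, ha, hb]
    | smul c a _ ha => rw [← TensorProduct.smul_tmul]; exact ha _

theorem quasiIso_map [Algebra.FormallyEtale R R'] :
    QuasiIso (NLCx.map ((Generators.self R T).defaultHom (Generators.self R' T)).toExtensionHom) := by
  let P₁ := (Generators.self R T).toExtension
  let P₂ := (Generators.self R' T).toExtension
  let f := ((Generators.self R T).defaultHom (Generators.self R' T)).toExtensionHom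
  have hH := NLSheafLib.bijective_map_base R R' T
  have hΩ : Function.Injective (KaehlerDifferential.map R R' T T) := (injective_iff_map_eq_zero _).2 fun x hx => by
    obtain ⟨y, rfl⟩ := (KaehlerDifferential.exact_mapBaseChange_map R R' T x).1 hx
    rw [Subsingleton.elim y 0, map_zero]
  refine quasiIso_double _ (ModuleCat.ofHom (Extension.Cotangent.map f))
    (ModuleCat.ofHom (Extension.CotangentSpace.map f))
    (HomologicalComplex.mkHomFromDouble_f₀ _ _ _ _ _ _)
    (HomologicalComplex.mkHomFromDouble_f₁ _ _ _ _ _ _) ?_ ?_ ?_ ?_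
  · intro x hx hax
    exact congrArg Subtype.val ((map_eq_zero_iff _ hH.1).1 (show Algebra.H1Cotangent.map R R' T T ⟨x, hx⟩ = 0 from
      Subtype.ext hax))
  · intro y hy
    obtain ⟨⟨x, hx⟩, hxy⟩ := hH.2 ⟨y, hy⟩
    exact ⟨x, hx, congrArg Subtype.val hxy⟩
  · rintro x ⟨y, hy⟩
    exact (P₁.exact_cotangentComplex_toKaehler x).1 (hΩ (by
      rw [map_toKaehler f, map_zero]
      exact (congrArg P₂.toKaehler hy.symm).trans (P₂.exact_cotangentComplex_toKaehler.apply_apply_eq_zero y)))
  · intro y
    obtain ⟨k, hk⟩ := KaehlerDifferential.map_surjective R R' T (P₂.toKaehler y)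
    obtain ⟨x, rfl⟩ := P₁.toKaehler_surjective k
    rw [map_toKaehler f] at hk
    obtain ⟨z, hz⟩ := (P₂.exact_cotangentComplex_toKaehler (y - Extension.CotangentSpace.map f x)).1
      (by rw [map_sub, hk, sub_self])
    exact ⟨x, z, (congrArg (_ + ·) hz).trans (add_sub_cancel _ _)⟩

set_option backward.isDefEq.respectTransparency false in
theorem bcMap_comp' {P : Extension.{u} R S} {P₁ : Extension.{u} R T} {P₂ : Extension.{u} R' T}
    (f : P.Hom P₁) (g : P₁.Hom P₂) : NLCx.bcMap f ≫ NLCx.map g = NLCx.bcMap (g.comp f) := by
  refine HomologicalComplex.from_double_hom_ext ?_ ?_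
  · simp only [NLCx.bcMap, NLCx.map, HomologicalComplex.comp_f, HomologicalComplex.mkHomFromDouble_f₀,
      Category.assoc, Iso.inv_hom_id_assoc]
    refine congrArg (_ ≫ ·) ((Category.assoc _ _ _).symm.trans (congrArg (· ≫ _) ?_))
    refine ModuleCat.hom_ext (TensorProduct.AlgebraTensorModule.ext fun t x => ?_)
    change Extension.Cotangent.map g (t • Extension.Cotangent.map f x) = t • Extension.Cotangent.map (g.comp f) x
    rw [map_smul, Extension.Cotangent.map_comp (P'' := P₂) f g]
    rfl
  · simp only [NLCx.bcMap, NLCx.map, HomologicalComplex.comp_f, HomologicalComplex.mkHomFromDouble_f₁,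
      Category.assoc, Iso.inv_hom_id_assoc]
    refine congrArg (_ ≫ ·) ((Category.assoc _ _ _).symm.trans (congrArg (· ≫ _) ?_))
    refine ModuleCat.hom_ext (TensorProduct.AlgebraTensorModule.ext fun t x => ?_)
    change Extension.CotangentSpace.map g (t • Extension.CotangentSpace.map f x) = t • Extension.CotangentSpace.map (g.comp f) x
    rw [map_smul, Extension.CotangentSpace.map_comp f g]
    rfl

/-- The canonical map is a quasi-isomorphism along an ind-étale map of algebras and a formally étale map of bases. -/
theorem quasiIso_bcMapSelf (h : EtPBC.IsIndEtale S T) [Algebra.FormallyEtale S T] [Algebra.FormallyEtale R R'] :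
    QuasiIso (NLCx.bcMapSelf R S R' T) := by
  let G := (Generators.self S T).comp (Generators.self R S)
  let t := ((Generators.self S T).toComp (Generators.self R S)).toExtensionHom
  let d := (G.defaultHom (Generators.self R T)).toExtensionHom
  let e := NLBCLib.homotopyEquiv d ((Generators.self R T).defaultHom G).toExtensionHom
  let m := ((Generators.self R T).defaultHom (Generators.self R' T)).toExtensionHom
  haveI := quasiIso_bcMap_toComp (R := R) h
  haveI := quasiIso_map (R := R) (R' := R') (T := T)
  haveI : QuasiIso (NLCx.map d) := inferInstanceAs (QuasiIso e.hom)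
  have hq : QuasiIso ((NLCx.bcMap (S' := T) t ≫ NLCx.map d) ≫ NLCx.map m) := inferInstance
  rw [NLBCLib.bcMap_comp, bcMap_comp'] at hq
  rw [quasiIso_iff] at hq ⊢
  intro i
  rw [quasiIsoAt_iff_isIso_homologyMap]
  have hh : Homotopy (NLCx.bcMapSelf R S R' T) (NLCx.bcMap (S' := T) (m.comp (d.comp t))) :=
    NLBCLib.homotopyBcMap _ _
  rw [hh.homologyMap_eq i]
  exact (quasiIsoAt_iff_isIso_homologyMap _ i).1 (hq i)

end BaseChange

end NLHensLib
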